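/-
Finite groups all of whose subgroups of order prime to `p > 3` are nilpotent: first properties.

Main results (namespace `Cfsg.Agent.PPrimeNilpotent`):
* `Hyp.subgroup`, `Hyp.quotient` : the property passes to subgroups and quotients;
* `Hyp.centralizes` : elements of odd order prime to `p` centralise the 2-subgroups they normalise;
* `Hyp.sFourFree` : the symmetric group of degree four is not involved;
* `secComp_of_proper` : the section hypothesis when all proper subgroups are soluble.
-/
import Cfsg.Agent.Lib.SFourClosed.Main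
import Cfsg.Agent.Lib.PByCyclic.Basic
import Cfsg.Agent.Lib.PQFit.Basic

set_option autoImplicit false
set_option linter.unusedSectionVars false
set_option linter.style.haveILetI false

namespace Cfsg.Agent.PPrimeNilpotent

open Subgroup

universe u

variable {G : Type u} [Group G] [Finite G] {p : ℕ}

/-- All subgroups of order prime to `p` are nilpotent. -/
def Hyp (p : ℕ) (G : Type*) [Group G] : Prop :=
  ∀ H : Subgroup G, (Nat.card ↥H).Coprime p → Group.IsNilpotent ↥H

theorem Hyp.subgroup (h : Hyp p G) (K : Subgroup G) : Hyp p ↥K := by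
  intro H hH
  let e := H.equivMapOfInjective K.subtype K.subtype_injective
  haveI := h (H.map K.subtype) (by rwa [← Nat.card_congr e.toEquiv])
  exact Group.nilpotent_of_mulEquiv e.symm

theorem Hyp.quotient (h : Hyp p G) (hp : p.Prime) (N : Subgroup G) [N.Normal] : Hyp p (G ⧸ N) := by
  haveI : Fact p.Prime := ⟨hp⟩
  intro H hH
  set f := QuotientGroup.mk' N with hf
  obtain ⟨K, hKH, hmin⟩ := Set.exists_min_image {K : Subgroup G | K.map f = H}
    (fun K => Nat.card K) (Set.toFinite _)
    ⟨H.comap f, Subgroup.map_comap_eq_self_of_surjective (QuotientGroup.mk'_surjective N) H⟩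
  replace hKH : K.map f = H := hKH
  by_cases hpK : p ∣ Nat.card K
  · exfalso
    let g : ↥K →* G ⧸ N := f.comp K.subtype
    have hgr : g.range = H := by rw [← hKH, MonoidHom.range_comp, Subgroup.range_subtype]
    obtain ⟨P⟩ : Nonempty (Sylow p ↥K) := inferInstance
    have hPker : (P : Subgroup ↥K) ≤ g.ker := by
      intro x hx
      obtain ⟨k, hk⟩ := P.isPGroup' ⟨x, hx⟩
      have h1 : orderOf (g x) ∣ p ^ k :=
        orderOf_dvd_of_pow_eq_one (by rw [← map_pow, show x ^ p ^ k = 1 from congrArg Subtype.val hk, map_one])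
      have hgx : g x ∈ H := hgr ▸ ⟨x, rfl⟩
      have h2 : orderOf (g x) ∣ Nat.card H := orderOf_dvd_natCard H hgx
      exact MonoidHom.mem_ker.2 (orderOf_eq_one_iff.1 (Nat.eq_one_of_dvd_one
        ((Nat.Coprime.pow_right k hH) ▸ Nat.dvd_gcd h2 h1)))
    have hfr : normalizer (((P : Subgroup ↥K)) : Set ↥K) ⊔ g.ker = ⊤ := by
      have h0 := Sylow.normalizer_sup_eq_top' (N := g.ker) P hPker
      exact h0
    -- a subgroup of `K` covering `H` is all of `K`
    have hall : ∀ L : Subgroup ↥K, L ⊔ g.ker = ⊤ → L = ⊤ := by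
      intro L hL
      have h1 : (L.map K.subtype).map f = H := by
        rw [Subgroup.map_map, ← hgr, ← Subgroup.map_eq_range_iff.2 (codisjoint_iff.2 hL)]
      have h2 : Nat.card K ≤ Nat.card (L.map K.subtype) := hmin _ h1
      rw [Cores.card_map_subtype] at h2
      exact Subgroup.eq_top_of_card_eq L (le_antisymm (Subgroup.card_le_card_group L) h2)
    haveI : (P : Subgroup ↥K).Normal := normalizer_eq_top_iff.1 (hall _ hfr)
    obtain ⟨L, hL⟩ := Subgroup.exists_left_complement'_of_coprime P.card_coprime_index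
    have hLtop := hall L (eq_top_iff.2 (hL.sup_eq_top.ge.trans (sup_le_sup_left hPker L)))
    have hbot : (P : Subgroup ↥K) = ⊥ := by
      have h3 := hL.disjoint.eq_bot
      rwa [hLtop, top_inf_eq] at h3
    exact P.ne_bot_of_dvd_card hpK hbot
  · haveI := h K ((hp.coprime_iff_not_dvd.2 hpK).symm)
    rw [← hKH]
    exact Group.nilpotent_of_surjective (f.subgroupMap K) (f.subgroupMap_surjective K)

/-- Elements of odd order prime to `p` centralise the 2-groups they normalise. -/
theorem Hyp.centralizes (h : Hyp p G) (hp : p.Prime) (hp2 : p ≠ 2) {Q : Subgroup G} (hQ : IsPGroup 2 Q)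
    {x : G} (hx : x ∈ normalizer (Q : Set G)) (hodd : Odd (orderOf x)) (hpx : ¬ p ∣ orderOf x) :
    x ∈ centralizer (Q : Set G) := by
  haveI : Fact (Nat.Prime 2) := ⟨Nat.prime_two⟩
  set H := Q ⊔ zpowers x
  obtain ⟨k, hk⟩ := IsPGroup.iff_card.1 hQ
  have hcard : Nat.card H = 2 ^ k * orderOf x := by
    rw [← hk]
    exact PByCyclic.card_sup_zpowers hQ hx hodd.not_two_dvd_nat
  haveI := h H (by
    rw [hcard]
    exact Nat.Coprime.mul_left (Nat.Coprime.pow_left k ((Nat.coprime_primes Nat.prime_two hp).2 hp2.symm))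
      ((hp.coprime_iff_not_dvd.2 hpx).symm))
  refine mem_centralizer_iff.2 fun q hq => ?_
  have hqH : q ∈ H := mem_sup_left hq
  have hxH : x ∈ H := mem_sup_right (mem_zpowers x)
  have hcop : (orderOf (⟨q, hqH⟩ : H)).Coprime (orderOf (⟨x, hxH⟩ : H)) := by
    rw [orderOf_mk, orderOf_mk]
    obtain ⟨j, hj⟩ := hQ ⟨q, hq⟩
    refine Nat.Coprime.coprime_dvd_left (orderOf_dvd_of_pow_eq_one (congrArg Subtype.val hj)) ?_
    exact Nat.Coprime.pow_left j (Nat.coprime_two_left.2 hodd)
  exact congrArg Subtype.val (PQFit.commute_of_nilpotent_coprime _ _ hcop)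

/-- The symmetric group of degree four is not involved. -/
theorem Hyp.sFourFree (h : Hyp p G) (hp : p.Prime) (hp3 : 3 < p) :
    ¬ Cfsg.Involves (Equiv.Perm (Fin 4)) G := by
  intro hinv
  obtain ⟨K, R, hR, ⟨e⟩⟩ := hinv
  set Q := ↥K ⧸ R.subgroupOf K
  have hcard : Nat.card Q = 24 := by
    rw [Nat.card_congr e.toEquiv, Nat.card_perm, Nat.card_fin]
    rfl
  have hcop : (Nat.card (⊤ : Subgroup Q)).Coprime p := by
    rw [Subgroup.card_top, hcard]
    refine (hp.coprime_iff_not_dvd.2 fun hd => ?_).symm
    rcases (hp.dvd_mul.1 (show p ∣ 2 ^ 3 * 3 by simpa using hd)) with h1 | h1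
    · exact absurd ((Nat.prime_dvd_prime_iff_eq hp Nat.prime_two).1 (hp.dvd_of_dvd_pow h1)) (by omega)
    · exact absurd ((Nat.prime_dvd_prime_iff_eq hp Nat.prime_three).1 h1) (by omega)
  haveI := (h.subgroup K).quotient hp (R.subgroupOf K) ⊤ hcop
  haveI : Group.IsNilpotent Q := Group.nilpotent_of_mulEquiv Subgroup.topEquiv
  haveI : Group.IsNilpotent (Equiv.Perm (Fin 4)) := Group.nilpotent_of_mulEquiv e
  have h2 := PQFit.commute_of_nilpotent_coprime (H := Equiv.Perm (Fin 4)) (Equiv.swap 0 1)
    (Equiv.swap 0 1 * Equiv.swap 1 2) (by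
      rw [orderOf_eq_prime (p := 2) (by decide) (by decide),
        orderOf_eq_prime (p := 3) (hp := ⟨Nat.prime_three⟩) (by decide) (by decide)]
      norm_num)
  exact absurd h2 (by decide)

/-- All constrained sections are soluble when all proper subgroups are and `O₂ = 1`. -/
theorem secComp_of_proper (hsol : ∀ H : Subgroup G, H ≠ ⊤ → Group.IsSolvable ↥H)
    (hG : ∀ N : Subgroup G, N.Normal → N = ⊥ ∨ N = ⊤) (hna : ¬ IsMulCommutative G) :
    SFourClosed.SecComp G := by
  refine SFourClosed.secComp_of fun K R _ hc => ?_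
  intro H _ N _ _ hnc
  exfalso
  have hs : Group.IsSolvable (↥K ⧸ R.subgroupOf K) := by
    by_cases hK : K = ⊤
    · subst hK
      have hbt : R.subgroupOf ⊤ = ⊥ ∨ R.subgroupOf ⊤ = ⊤ := by
        have hn : ((R.subgroupOf ⊤).map Subgroup.topEquiv.toMonoidHom).Normal :=
          Subgroup.Normal.map inferInstance _ Subgroup.topEquiv.surjective
        rcases hG _ hn with e | e
        · exact Or.inl ((Subgroup.map_eq_bot_iff_of_injective _ Subgroup.topEquiv.injective).1 e)
        · exact Or.inr ((Subgroup.eq_top_iff' _).2 fun x => by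
            obtain ⟨y, hy, hyx⟩ := e.ge (Subgroup.mem_top (Subgroup.topEquiv x))
            exact Subgroup.topEquiv.injective hyx ▸ hy)
      rcases hbt with e | e
      · exfalso
        let ψ : ↥(⊤ : Subgroup G) ⧸ R.subgroupOf ⊤ ≃* G :=
          ((QuotientGroup.quotientMulEquivOfEq e).trans QuotientGroup.quotientBot).trans Subgroup.topEquiv
        have hc' : centralizer (Cfsg.pCore 2 G : Set G) ≤ Cfsg.pCore 2 G :=
          FunctorControl.centralizer_pCore_le_equiv ψ hc
        rcases hG _ (Cores.pCore_normal 2 G) with h0 | h0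
        · rw [h0] at hc'
          have hall : ∀ x : G, x = 1 := fun x => Subgroup.mem_bot.1 (hc' (Subgroup.mem_centralizer_iff.2
            fun y hy => by rw [Subgroup.mem_bot.1 hy, one_mul, mul_one]))
          exact hna ⟨⟨fun a b => by rw [hall a, hall b]⟩⟩
        · haveI : Fact (Nat.Prime 2) := ⟨Nat.prime_two⟩
          have h2 : IsPGroup 2 G := Cores.pCore_eq_top_iff.1 h0
          haveI := h2.isNilpotent
          have hcen : center G = ⊤ := by
            rcases hG (center G) inferInstance with e1 | e1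
            · haveI : Nontrivial G := not_subsingleton_iff_nontrivial.1 fun hs =>
                hna ⟨⟨fun a b => Subsingleton.elim _ _⟩⟩
              haveI := h2.center_nontrivial
              exact absurd e1 ((Subgroup.nontrivial_iff_ne_bot _).1 inferInstance)
            · exact e1
          exact hna ⟨⟨fun a b => Subgroup.mem_center_iff.1 (hcen ▸ Subgroup.mem_top b) a⟩⟩
      · exact Group.isSolvable_of_top_eq_bot _ (by
          have : Subsingleton (↥(⊤ : Subgroup G) ⧸ R.subgroupOf ⊤) := by
            rw [e]; exact QuotientGroup.subsingleton_quotient_top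
          exact Subsingleton.elim _ _)
    · haveI := hsol K hK
      exact Group.isSolvable_of_surjective (QuotientGroup.mk'_surjective (R.subgroupOf K))
  haveI := hs
  haveI : Group.IsSolvable ↥H := inferInstance
  haveI : Group.IsSolvable (↥H ⧸ N) := Group.isSolvable_of_surjective (QuotientGroup.mk'_surjective N)
  exact hnc ⟨⟨IsSimpleGroup.comm_iff_isSolvable.2 inferInstance⟩⟩

end Cfsg.Agent.PPrimeNilpotent
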