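/-
A strongly closed elementary abelian 2-subgroup in a group with soluble involution centralisers.

Main results (namespace `Cfsg.Agent.PPrimeNilpotent`):
* `normal_of_stronglyClosed` : in a constrained group a strongly closed abelian subgroup of a Sylow 2-subgroup is normal;
* `normalizer_sup_core` : in a soluble group its normalizer covers the quotient by the odd core;
* `Closed.stronglyEmbedded` : a proper `M ≥ N(A)` containing the cores `O(C(a))` is strongly embedded.
-/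
import Cfsg.Agent.Lib.PPrimeNilpotent.Basic
import Cfsg.Agent.Lib.Signalizer.Core
import Cfsg.Agent.Lib.Signalizer.ElemAb
import Cfsg.Agent.Lib.StrongEmb.Basic
import Cfsg.Agent.Lib.HallHigman.PSolvable
import Cfsg.Agent.Lib.Involution.StronglyEmbedded

set_option autoImplicit false
set_option linter.unusedSectionVars false
set_option linter.style.haveILetI false

namespace Cfsg.Agent.PPrimeNilpotent

open Subgroup AlperinFamily
open scoped Pointwise

universe u

section
variable {X : Type u} [Group X] [Finite X]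

/-- In a constrained group a strongly closed abelian subgroup of a Sylow 2-subgroup is normal. -/
theorem normal_of_stronglyClosed (hc : Constrained.IsCharP 2 X) (T : Sylow 2 X) {A : Subgroup X}
    (hA : IsMulCommutative ↥A) (hsc : Cfsg.IsStronglyClosed A (T : Subgroup X)) : A.Normal := by
  haveI : Fact (Nat.Prime 2) := ⟨Nat.prime_two⟩
  set Q := Cfsg.pCore 2 X with hQ
  haveI : Q.Normal := Cores.pCore_normal 2 X
  have hQT : Q ≤ (T : Subgroup X) := Cores.pCore_le_sylow T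
  set B := A ⊓ Q with hB
  haveI hBn : B.Normal := ⟨fun b hb g =>
    ⟨hsc.2 b hb.1 g (hQT (Normal.conj_mem inferInstance b hb.2 g)), Normal.conj_mem inferInstance b hb.2 g⟩⟩
  set f := QuotientGroup.mk' B with hf
  haveI : (Q.map f).Normal := Normal.map inferInstance f (QuotientGroup.mk'_surjective B)
  set Z₀ := centralizer (B : Set X) ⊓ (centralizer ((Q.map f : Subgroup (X ⧸ B)) : Set (X ⧸ B))).comap f with hZ
  haveI : Z₀.Normal := inferInstance
  have hAZ : A ≤ Z₀ := by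
    intro a ha
    refine ⟨mem_centralizer_iff.2 fun b hb => Signalizer.commute_of_isMulCommutative hA hb.1 ha,
      mem_comap.2 (mem_centralizer_iff.2 ?_)⟩
    rintro _ ⟨q, hq : q ∈ Q, rfl⟩
    have h1 : q * a * q⁻¹ ∈ A := hsc.2 a ha q (mul_mem (mul_mem (hQT hq) (hsc.1 ha)) (inv_mem (hQT hq)))
    have h2 : q * a * q⁻¹ * a⁻¹ ∈ B := ⟨mul_mem h1 (A.inv_mem ha), by
      have : q * (a * q⁻¹ * a⁻¹) ∈ Q := mul_mem hq (Normal.conj_mem (H := Q) inferInstance _ (inv_mem hq) a)
      simpa [mul_assoc] using this⟩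
    have h3 : f (q * a * q⁻¹ * a⁻¹) = 1 := (QuotientGroup.eq_one_iff _).2 h2
    rw [map_mul, map_mul, map_mul, map_inv, map_inv, mul_inv_eq_one, mul_inv_eq_iff_eq_mul] at h3
    exact h3
  have hodd : ∀ x ∈ Z₀, Odd (orderOf x) → x = 1 := by
    intro x hx hox
    have hxC : x ∈ centralizer (Q : Set X) := mem_centralizer_iff.2 fun q hq => by
      have hfq := mem_centralizer_iff.1 (mem_comap.1 hx.2) (f q) ⟨q, hq, rfl⟩
      rw [← map_mul, ← map_mul, QuotientGroup.mk'_apply, QuotientGroup.mk'_apply, QuotientGroup.eq] at hfq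
      obtain ⟨b, hb, hxq⟩ : ∃ b ∈ B, x * q * x⁻¹ = q * b := by
        refine ⟨q⁻¹ * (x * q * x⁻¹), ?_, by group⟩
        have := hBn.conj_mem _ hfq x
        simpa [mul_assoc] using this
      have hbx : x * b * x⁻¹ = b := by
        rw [← mem_centralizer_iff.1 hx.1 b hb, mul_inv_cancel_right]
      have hn : ∀ n : ℕ, x ^ n * q * (x ^ n)⁻¹ = q * b ^ n := by
        intro n
        induction n with
        | zero => simp
        | succ n ih =>
          calc x ^ (n + 1) * q * (x ^ (n + 1))⁻¹ = x * (x ^ n * q * (x ^ n)⁻¹) * x⁻¹ := by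
                rw [pow_succ']; group
            _ = (x * q * x⁻¹) * (x * b ^ n * x⁻¹) := by rw [ih]; group
            _ = q * b ^ (n + 1) := by rw [← conj_pow, hbx, hxq, mul_assoc, ← pow_succ']
      have h4 := hn (orderOf x)
      rw [pow_orderOf_eq_one, one_mul, inv_one, mul_one, left_eq_mul] at h4
      obtain ⟨k, hk⟩ := (IsPGroup.to_le (Cores.isPGroup_pCore 2 X) (inf_le_right : B ≤ Q)) ⟨b, hb⟩
      have hb1 : b = 1 := orderOf_eq_one_iff.1 (Nat.eq_one_of_dvd_one
        ((Nat.Coprime.pow_left k (Nat.coprime_two_left.2 hox)) ▸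
          Nat.dvd_gcd (orderOf_dvd_of_pow_eq_one (congrArg Subtype.val hk)) (orderOf_dvd_of_pow_eq_one h4)))
      rw [hb1, mul_one, mul_inv_eq_iff_eq_mul] at hxq
      exact hxq.symm
    obtain ⟨k, hk⟩ := Cores.isPGroup_pCore 2 X ⟨x, hc hxC⟩
    exact orderOf_eq_one_iff.1 (Nat.eq_one_of_dvd_one ((Nat.Coprime.pow_left k (Nat.coprime_two_left.2 hox)) ▸
      Nat.dvd_gcd (orderOf_dvd_of_pow_eq_one (congrArg Subtype.val hk)) dvd_rfl))
  have hZ2 : IsPGroup 2 Z₀ := by
    intro x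
    set e := (orderOf (x : X)).factorization 2 with he
    refine ⟨e, Subtype.ext (hodd _ (pow_mem x.2 (2 ^ e)) ?_)⟩
    show Odd (orderOf ((x : X) ^ 2 ^ e))
    rw [orderOf_pow_of_dvd (pow_ne_zero _ two_ne_zero) (Nat.ordProj_dvd _ 2)]
    rw [← Nat.not_even_iff_odd, even_iff_two_dvd]
    exact Nat.not_dvd_ordCompl Nat.prime_two (orderOf_pos _).ne'
  have hAQ : A ≤ Q := hAZ.trans (Cores.le_pCore inferInstance hZ2)
  rwa [hB, inf_eq_left.2 hAQ] at hBn

/-- In a soluble group the normalizer of a strongly closed abelian subgroup covers the quotient by the odd core. -/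
theorem normalizer_sup_core [Group.IsSolvable X] (T : Sylow 2 X) {A : Subgroup X}
    (hA : IsMulCommutative ↥A) (hsc : Cfsg.IsStronglyClosed A (T : Subgroup X)) :
    normalizer (A : Set X) ⊔ Cfsg.pPrimeCore 2 X = ⊤ := by
  haveI : Fact (Nat.Prime 2) := ⟨Nat.prime_two⟩
  set O := Cfsg.pPrimeCore 2 X with hO
  haveI : O.Normal := Cores.pPrimeCore_normal 2 X
  set f := QuotientGroup.mk' O with hf
  have hTO : ∀ t ∈ (T : Subgroup X), t ∈ O → t = 1 := fun t ht htO => by
    obtain ⟨k, hk⟩ := T.isPGroup' ⟨t, ht⟩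
    exact orderOf_eq_one_iff.1 (Nat.eq_one_of_dvd_one
      ((Nat.Coprime.pow_left k ((Nat.prime_two.coprime_iff_not_dvd).2 (Cores.not_dvd_card_pPrimeCore (p := 2) (G := X)))) ▸
        Nat.dvd_gcd (orderOf_dvd_of_pow_eq_one (congrArg Subtype.val hk)) (orderOf_dvd_natCard O htO)))
  have hTA : ∀ t ∈ (T : Subgroup X), ∀ a ∈ A, t * a * t⁻¹ ∈ A := fun t ht a ha =>
    hsc.2 a ha t (mul_mem (mul_mem ht (hsc.1 ha)) (inv_mem ht))
  set T' := T.mapSurjective (QuotientGroup.mk'_surjective O) with hT'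
  have hsc' : Cfsg.IsStronglyClosed (A.map f) (T' : Subgroup (X ⧸ O)) := by
    refine ⟨map_mono hsc.1, ?_⟩
    rintro _ ⟨a, ha, rfl⟩ g hg
    obtain ⟨c, rfl⟩ := QuotientGroup.mk'_surjective O g
    rw [← map_inv, ← map_mul, ← map_mul] at hg ⊢
    obtain ⟨t, ht, htc⟩ := hg
    have hmem : ∀ y, y ∈ (T : Subgroup X) ⊔ O → ∃ t' ∈ (T : Subgroup X), ∃ o ∈ O, t' * o = y := fun y hy => by
      rwa [← SetLike.mem_coe, Subgroup.mul_normal] at hy
    have hc' : c * a * c⁻¹ ∈ (T : Subgroup X) ⊔ O := by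
      have h1 : t⁻¹ * (c * a * c⁻¹) ∈ O := by
        rw [← QuotientGroup.eq_one_iff, ← QuotientGroup.mk'_apply, map_mul, map_inv, ← hf, htc, inv_mul_cancel]
      simpa using mul_mem (mem_sup_left (T := O) ht) (mem_sup_right (S := (T : Subgroup X)) h1)
    have hS : Fusion.IsSylowIn 2 (T : Subgroup X) ((T : Subgroup X) ⊔ O) :=
      ⟨le_sup_left, T.isPGroup', fun _ h1 _ h3 => T.is_maximal' h3 h1⟩
    obtain ⟨k, hk, hkA⟩ := hS.exists_conj_le (H := zpowers (c * a * c⁻¹))
      (IsPGroup.to_le ((T.isPGroup'.to_le hsc.1).map (MulAut.conj c).toMonoidHom)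
        (zpowers_le.2 ⟨a, ha, by simp⟩)) (zpowers_le.2 hc')
    have h2 := hkA _ (mem_zpowers _)
    obtain ⟨t', ht', o, ho, rfl⟩ := hmem k hk
    have h3 : t' * o * (c * a * c⁻¹) * (t' * o)⁻¹ ∈ A := by
      have h5 := hsc.2 a ha (t' * o * c) (by simpa [mul_assoc] using h2)
      simpa [mul_assoc] using h5
    have h4 := hTA t'⁻¹ (inv_mem ht') _ h3
    refine ⟨_, h4, ?_⟩
    have ho1 : f o = 1 := (QuotientGroup.eq_one_iff o).2 ho
    simp only [hf] at ho1 ⊢
    simp only [map_mul, map_inv, ho1, mul_one, inv_inv]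
    group
  haveI := normal_of_stronglyClosed
    (Constrained.isPConstrained_iff.1 (HallHigman.isPConstrained_of_isSolvable (p := 2) (G := X))) T'
    (Subgroup.map_isMulCommutative A f) hsc'
  set D := (A.map f).comap f with hD
  haveI : D.Normal := Normal.comap inferInstance f
  have hTD : (T : Subgroup X) ⊓ D = A := by
    refine le_antisymm (fun t ⟨ht, htD⟩ => ?_) (le_inf hsc.1 (le_comap_map f A))
    obtain ⟨a, ha, hat⟩ := htD
    have h1 := hTO (a⁻¹ * t) (mul_mem (inv_mem (hsc.1 ha)) ht) ((QuotientGroup.eq_one_iff _).1 (by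
      rw [← QuotientGroup.mk'_apply, ← hf, map_mul, map_inv, hat, inv_mul_cancel]))
    rw [inv_mul_eq_one] at h1
    exact h1 ▸ ha
  have h := StrongEmb.normalizer_inf_sup_eq_top T D
  rw [hTD] at h
  refine eq_top_iff.2 (h.ge.trans (sup_le le_sup_left ?_))
  rw [hD, comap_map_eq, QuotientGroup.ker_mk']
  exact sup_le (le_normalizer.trans le_sup_left) le_sup_right

end

section
variable {G : Type u} [Group G] [Finite G] {S : Sylow 2 G} {A M : Subgroup G}

/-- The data: an elementary abelian strongly closed subgroup of the Sylow subgroup `S`. -/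
structure Closed (S : Sylow 2 G) (A : Subgroup G) : Prop where
  elem : Cfsg.IsElementaryAbelian 2 A
  sc : Cfsg.IsStronglyClosed A (S : Subgroup G)

theorem Closed.le (h : Closed S A) : A ≤ (S : Subgroup G) := h.sc.1

theorem Closed.sylow_le_normalizer (h : Closed S A) : (S : Subgroup G) ≤ normalizer (A : Set G) :=
  Signalizer.le_normalizer_of_conj_mem fun s hs a ha =>
    h.sc.2 a ha s (mul_mem (mul_mem hs (h.le ha)) (inv_mem hs))

theorem Closed.orderOf_eq (h : Closed S A) {a : G} (ha : a ∈ A) (ha1 : a ≠ 1) : orderOf a = 2 :=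
  orderOf_eq_prime (h.elem.2 a ha) ha1

/-- Strong closure relative to an arbitrary 2-group above `A`. -/
theorem Closed.mem_of_conj (h : Closed S A) {T : Subgroup G} (hT : IsPGroup 2 T) (hAT : A ≤ T) {g a : G}
    (ha : a ∈ A) (hg : g * a * g⁻¹ ∈ T) : g * a * g⁻¹ ∈ A := by
  haveI : Fact (Nat.Prime 2) := ⟨Nat.prime_two⟩
  have hS : Fusion.IsSylowIn 2 (S : Subgroup G) (⊤ : Subgroup G) :=
    ⟨le_top, S.isPGroup', fun _ h1 _ h3 => S.is_maximal' h3 h1⟩
  obtain ⟨x, -, hx⟩ := hS.exists_conj_le hT le_top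
  have hxA : ∀ b ∈ A, x * b * x⁻¹ ∈ A := fun b hb => h.sc.2 b hb x (hx b (hAT hb))
  have hxN : x ∈ normalizer (A : Set G) := Signalizer.mem_normalizer_of_conj_mem hxA
  have h1 : x * (g * a * g⁻¹) * x⁻¹ ∈ A := by
    have := h.sc.2 a ha (x * g) (by simpa [mul_assoc] using hx _ hg)
    simpa [mul_assoc] using this
  exact (mem_normalizer_iff.1 hxN _).2 h1

/-- An element moving a nontrivial member of `A` into `A` lies in `M`. -/
theorem Closed.mem_of_fused (h : Closed S A) (hN : normalizer (A : Set G) ≤ M) {n d : G} (hd : d ∈ A)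
    (hnd : n * d * n⁻¹ ∈ A) (hC : centralizer ({n * d * n⁻¹} : Set G) ≤ M) : n ∈ M := by
  haveI : Fact (Nat.Prime 2) := ⟨Nat.prime_two⟩
  set d' := n * d * n⁻¹ with hd'
  set C := centralizer ({d'} : Set G) with hCdef
  have hAC : A ≤ C := fun a ha =>
    mem_centralizer_singleton_iff.2 (Signalizer.commute_of_isMulCommutative h.elem.1 ha hnd)
  have hnAC : A.map (MulAut.conj n).toMonoidHom ≤ C := by
    rintro _ ⟨a, ha, rfl⟩
    refine mem_centralizer_singleton_iff.2 ?_
    show n * a * n⁻¹ * (n * d * n⁻¹) = n * d * n⁻¹ * (n * a * n⁻¹)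
    calc n * a * n⁻¹ * (n * d * n⁻¹) = n * (a * d) * n⁻¹ := by group
      _ = n * (d * a) * n⁻¹ := by rw [Signalizer.commute_of_isMulCommutative h.elem.1 ha hd]
      _ = _ := by group
  have h2A := Signalizer.isPGroup_of_elemAb h.elem
  obtain ⟨T, hT⟩ := ((h2A.comap_of_injective C.subtype C.subtype_injective)).exists_le_sylow
  set TG := (T : Subgroup ↥C).map C.subtype with hTG
  have hS : Fusion.IsSylowIn 2 TG C :=
    ⟨map_subtype_le _, T.isPGroup'.map _, fun P h1 h2 h3 => by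
      have h4 := T.is_maximal' (h3.comap_of_injective C.subtype C.subtype_injective) (fun y hy => h1 ⟨y, hy, rfl⟩)
      rw [hTG, ← h4]
      exact (map_comap_eq_self (by rw [Subgroup.range_subtype]; exact h2)).symm⟩
  obtain ⟨c, hc, hcA⟩ := hS.exists_conj_le (h2A.map _) hnAC
  have hcn : c * n ∈ normalizer (A : Set G) := Signalizer.mem_normalizer_of_conj_mem fun a ha =>
    h.mem_of_conj (T.isPGroup'.map _) (fun b hb => ⟨⟨b, hAC hb⟩, hT hb, rfl⟩) ha
      (by rw [show c * n * a * (c * n)⁻¹ = c * (n * a * n⁻¹) * c⁻¹ by group]; exact hcA _ ⟨a, ha, rfl⟩)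
  simpa using mul_mem (inv_mem (hC hc)) (hN hcn)

/-- The centraliser of an involution centralising `A`, or more generally its part above `A ∩ C(u)`. -/
theorem Closed.centralizer_le (h : Closed S A) (hN : normalizer (A : Set G) ≤ M) {v : G}
    (hsolv : Group.IsSolvable ↥(centralizer ({v} : Set G)))
    (hO : Cfsg.centralizerPPrimeCore 2 v ≤ M) {d : G} (hd : d ∈ A) (hd1 : d ≠ 1) (hdv : Commute d v)
    (hC : (∀ a ∈ A, a ≠ 1 → centralizer ({a} : Set G) ≤ M) ∨ A ≤ centralizer ({v} : Set G)) :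
    centralizer ({v} : Set G) ≤ M := by
  haveI : Fact (Nat.Prime 2) := ⟨Nat.prime_two⟩
  haveI := hsolv
  set C := centralizer ({v} : Set G) with hCdef
  obtain ⟨T, hT⟩ := (((Signalizer.isPGroup_of_elemAb h.elem).to_le (inf_le_left : A ⊓ C ≤ A)).comap_of_injective
    C.subtype C.subtype_injective).exists_le_sylow
  set TG := (T : Subgroup ↥C).map C.subtype with hTG
  obtain ⟨S', hS'⟩ := (T.isPGroup'.map C.subtype).exists_le_sylow
  obtain ⟨g, hg⟩ := MulAction.exists_smul_eq G S S'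
  have hS'g : ∀ x, x ∈ (S' : Subgroup G) → g⁻¹ * x * g ∈ (S : Subgroup G) := fun x hx => by
    rw [← hg] at hx
    obtain ⟨s, hs, rfl⟩ := hx
    convert hs using 1
    simp [mul_assoc]
    rfl
  set D : Subgroup ↥C := (T : Subgroup ↥C) ⊓ (A.map (MulAut.conj g).toMonoidHom).subgroupOf C with hD
  have hD' : ∀ x : ↥C, x ∈ D ↔ x ∈ (T : Subgroup ↥C) ∧ g⁻¹ * (x : G) * g ∈ A := fun x => by
    rw [hD, mem_inf, mem_subgroupOf, Involution.mem_map_conj_iff]
  have hsc : Cfsg.IsStronglyClosed D (T : Subgroup ↥C) := by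
    refine ⟨inf_le_left, fun x hx y hy => (hD' _).2 ⟨hy, ?_⟩⟩
    have h1 := hS'g _ (hS' ⟨_, hy, rfl⟩)
    have h2 := h.sc.2 _ ((hD' x).1 hx).2 (g⁻¹ * (y : G) * g) (by simpa [mul_assoc] using h1)
    simpa [mul_assoc] using h2
  have hDc : IsMulCommutative ↥D := ⟨⟨fun x y => by
    have hx := ((hD' _).1 x.2).2
    have hy := ((hD' _).1 y.2).2
    have he := Signalizer.commute_of_isMulCommutative h.elem.1 hx hy
    refine Subtype.ext (Subtype.ext ?_)
    show ((x : ↥C) : G) * ((y : ↥C) : G) = ((y : ↥C) : G) * ((x : ↥C) : G)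
    calc ((x : ↥C) : G) * ((y : ↥C) : G)
        = g * ((g⁻¹ * ((x : ↥C) : G) * g) * (g⁻¹ * ((y : ↥C) : G) * g)) * g⁻¹ := by group
      _ = g * ((g⁻¹ * ((y : ↥C) : G) * g) * (g⁻¹ * ((x : ↥C) : G) * g)) * g⁻¹ := by rw [he]
      _ = _ := by group⟩⟩
  have hcov := normalizer_sup_core T hDc hsc
  have hdC : d ∈ C := mem_centralizer_singleton_iff.2 hdv
  have hdT : (⟨d, hdC⟩ : ↥C) ∈ (T : Subgroup ↥C) := hT ⟨hd, hdC⟩
  have hgd : g⁻¹ * d * g ∈ A := by
    have := h.sc.2 d hd g⁻¹ (by simpa using hS'g d (hS' ⟨_, hdT, rfl⟩))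
    simpa using this
  have hmain : ∀ n ∈ normalizer (D : Set ↥C), (n : G) ∈ M := by
    intro n hn
    rcases hC with hC | hAC
    · have e1 : g⁻¹ ∈ M := h.mem_of_fused hN hd (by simpa using hgd) (by
        simpa using hC _ hgd fun e => hd1 (by
          rw [show d = g * (g⁻¹ * d * g) * g⁻¹ by group, e, mul_one, mul_inv_cancel]))
      have hdD : (⟨d, hdC⟩ : ↥C) ∈ D := (hD' _).2 ⟨hdT, hgd⟩
      have h2 := ((hD' _).1 ((mem_normalizer_iff.1 hn _).1 hdD)).2
      have h3 : g⁻¹ * (n : G) * d * (g⁻¹ * (n : G))⁻¹ ∈ A := by simpa [mul_assoc] using h2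
      have e2 : g⁻¹ * (n : G) ∈ M := h.mem_of_fused hN hd h3 (hC _ h3 fun e => hd1 (conj_eq_one_iff.1 e))
      simpa using mul_mem (inv_mem e1) e2
    · have hgA : ∀ a ∈ A, g⁻¹ * a * g ∈ A := fun a ha => by
        have := h.sc.2 a ha g⁻¹ (by simpa using hS'g a (hS' ⟨⟨a, hAC ha⟩, hT ⟨ha, hAC ha⟩, rfl⟩))
        simpa using this
      have hgN : g⁻¹ ∈ normalizer (A : Set G) :=
        Signalizer.mem_normalizer_of_conj_mem fun a ha => by simpa using hgA a ha
      refine hN (Signalizer.mem_normalizer_of_conj_mem fun a ha => ?_)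
      have hdD : (⟨a, hAC ha⟩ : ↥C) ∈ D := (hD' _).2 ⟨hT ⟨ha, hAC ha⟩, hgA a ha⟩
      have h2 := ((hD' _).1 ((mem_normalizer_iff.1 hn _).1 hdD)).2
      exact (mem_normalizer_iff.1 hgN _).2 (by simpa [mul_assoc] using h2)
  intro x hx
  have h1 : (⟨x, hx⟩ : ↥C) ∈ normalizer (D : Set ↥C) ⊔ Cfsg.pPrimeCore 2 ↥C := hcov ▸ mem_top _
  haveI := Cores.pPrimeCore_normal 2 ↥C
  rw [← SetLike.mem_coe, Subgroup.mul_normal] at h1
  obtain ⟨n, hn, o, ho, he⟩ := h1
  rw [show x = (n : G) * (o : G) from (congrArg Subtype.val he).symm]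
  exact mul_mem (hmain n hn) (hO ⟨o, ho, rfl⟩)

/-- The centralised part of `A` is large. -/
theorem Closed.card_le_sq (h : Closed S A) {v : G} (hv : v * v = 1) (hvA : v ∈ normalizer (A : Set G)) :
    Nat.card A ≤ Nat.card ↥(A ⊓ centralizer ({v} : Set G)) ^ 2 := by
  set B := A ⊓ centralizer ({v} : Set G)
  let φ : ↥A →* ↥A :=
    { toFun := fun a => ⟨(a : G) * (v * a * v⁻¹), mul_mem a.2 ((mem_normalizer_iff.1 hvA _).1 a.2)⟩
      map_one' := Subtype.ext (by simp)
      map_mul' := fun a b => Subtype.ext (by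
        show (a : G) * b * (v * (a * b) * v⁻¹) = (a : G) * (v * a * v⁻¹) * (b * (v * b * v⁻¹))
        have hc := Signalizer.commute_of_isMulCommutative h.elem.1 b.2 ((mem_normalizer_iff.1 hvA _).1 a.2)
        calc (a : G) * b * (v * (a * b) * v⁻¹) = (a : G) * ((b : G) * (v * a * v⁻¹)) * (v * b * v⁻¹) := by group
          _ = (a : G) * ((v * a * v⁻¹) * b) * (v * b * v⁻¹) := by rw [hc]
          _ = _ := by group) }
  have hker : φ.ker.map A.subtype ≤ B := by
    rintro _ ⟨a, ha, rfl⟩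
    have h1 : (a : G) * (v * a * v⁻¹) = 1 := congrArg Subtype.val ha
    refine ⟨a.2, mem_centralizer_singleton_iff.2 ?_⟩
    have ha2 : (a : G) * a = 1 := by rw [← sq]; exact h.elem.2 a a.2
    have h2 := mul_left_cancel (h1.trans ha2.symm)
    show (a : G) * v = v * a
    exact (mul_inv_eq_iff_eq_mul.1 h2).symm
  have hran : φ.range.map A.subtype ≤ B := by
    rintro _ ⟨_, ⟨a, rfl⟩, rfl⟩
    refine ⟨(φ a).2, mem_centralizer_singleton_iff.2 ?_⟩
    show (a : G) * (v * a * v⁻¹) * v = v * ((a : G) * (v * a * v⁻¹))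
    have hc := Signalizer.commute_of_isMulCommutative h.elem.1 a.2 ((mem_normalizer_iff.1 hvA _).1 a.2)
    have hvi : v⁻¹ = v := inv_eq_of_mul_eq_one_right hv
    calc (a : G) * (v * a * v⁻¹) * v = (v * a * v⁻¹) * a * v := by rw [hc]
      _ = v * ((a : G) * (v * a * v⁻¹)) * (v * v) := by rw [hvi]; simp only [mul_assoc, hv, mul_one]
      _ = _ := by rw [hv, mul_one]
  rw [sq, ← Subgroup.card_mul_index φ.ker, Subgroup.index_ker, ← Cores.card_map_subtype A φ.ker,
    ← Cores.card_map_subtype A φ.range]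
  exact Nat.mul_le_mul (Subgroup.card_le_of_le hker) (Subgroup.card_le_of_le hran)

/-- **A strongly embedded subgroup** above `N(A)` and the cores. -/
theorem Closed.stronglyEmbedded (h : Closed S A) (h8 : 8 ≤ Nat.card A) (hM : M ≠ ⊤)
    (hN : normalizer (A : Set G) ≤ M)
    (hsolv : ∀ v : G, orderOf v = 2 → Group.IsSolvable ↥(centralizer ({v} : Set G)))
    (hθ : ∀ a ∈ A, a ≠ 1 → Cfsg.centralizerPPrimeCore 2 a ≤ M) : Cfsg.IsStronglyEmbedded M := by
  haveI : Fact (Nat.Prime 2) := ⟨Nat.prime_two⟩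
  have hCa : ∀ a ∈ A, a ≠ 1 → centralizer ({a} : Set G) ≤ M := fun a ha ha1 =>
    h.centralizer_le hN (hsolv a (h.orderOf_eq ha ha1)) (hθ a ha ha1) ha ha1 (Commute.refl a)
      (Or.inr fun b hb => mem_centralizer_singleton_iff.2 (Signalizer.commute_of_isMulCommutative h.elem.1 hb ha))
  have hSM : (S : Subgroup G) ≤ M := h.sylow_le_normalizer.trans hN
  have hB : ∀ v ∈ (S : Subgroup G), orderOf v = 2 →
      4 ≤ Nat.card ↥(A ⊓ centralizer ({v} : Set G)) := by
    intro v hvS hv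
    have h1 := h.card_le_sq (Involution.mul_self hv) (h.sylow_le_normalizer hvS)
    obtain ⟨k, hk⟩ := IsPGroup.iff_card.1 ((Signalizer.isPGroup_of_elemAb h.elem).to_le
      (inf_le_left : A ⊓ centralizer ({v} : Set G) ≤ A))
    rw [hk] at h1 ⊢
    rcases k with _ | _ | k
    · simp at h1; omega
    · simp at h1; omega
    · rw [pow_succ, pow_succ, mul_assoc]
      exact Nat.le_mul_of_pos_left _ (Nat.two_pow_pos k)
  have hex : ∀ v ∈ (S : Subgroup G), orderOf v = 2 → ∃ d ∈ A, d ≠ 1 ∧ Commute d v := by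
    intro v hvS hv
    have h4 := hB v hvS hv
    obtain ⟨d, hd, hd1⟩ := (Subgroup.bot_or_exists_ne_one (A ⊓ centralizer ({v} : Set G))).resolve_left fun e => by
      rw [e, Subgroup.card_bot] at h4
      omega
    exact ⟨d, hd.1, hd1, mem_centralizer_singleton_iff.1 hd.2⟩
  have hCv : ∀ v ∈ (S : Subgroup G), orderOf v = 2 → centralizer ({v} : Set G) ≤ M := by
    intro v hvS hv
    obtain ⟨d, hd, hd1, hdv⟩ := hex v hvS hv
    refine h.centralizer_le hN (hsolv v hv) ?_ hd hd1 hdv (Or.inl hCa)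
    refine Signalizer.le_of_elements (Signalizer.elemAb_of_le h.elem (inf_le_left : A ⊓ centralizer ({v} : Set G) ≤ A))
      (hB v hvS hv) M _ (Signalizer.not_dvd_card_core v)
      (fun b hb => Signalizer.centralizer_le_normalizer_core v (Subgroup.mem_inf.1 hb).2) ?_
    intro b hb hb1
    haveI := hsolv b (h.orderOf_eq hb.1 hb1)
    exact (Signalizer.core_inf_centralizer_le_core (p := 2) (by rw [sq]; exact Involution.mul_self hv)
      (mem_centralizer_singleton_iff.1 hb.2).symm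
      HallHigman.isPConstrained_of_isSolvable).trans (hθ b hb.1 hb1)
  have hSyl : Fusion.IsSylowIn 2 (S : Subgroup G) M :=
    ⟨hSM, S.isPGroup', fun _ h1 _ h3 => S.is_maximal' h3 h1⟩
  obtain ⟨a, ha, ha1⟩ := (Subgroup.bot_or_exists_ne_one A).resolve_left fun e => by
    rw [e, Subgroup.card_bot] at h8
    omega
  refine Involution.isStronglyEmbedded_iff_forall.2 ⟨hM, ?_, fun g t ht htM hg => ?_⟩
  · rw [even_iff_two_dvd, ← h.orderOf_eq ha ha1]
    exact orderOf_dvd_natCard M (hSM (h.le ha))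
  -- move both elements into `S`
  obtain ⟨m, hm, hmt⟩ := hSyl.exists_conj_le (H := zpowers t)
    (IsPGroup.of_card (n := 1) (by rw [Nat.card_zpowers, ht, pow_one])) (zpowers_le.2 htM)
  obtain ⟨m', hm', hmt'⟩ := hSyl.exists_conj_le (H := zpowers (g * t * g⁻¹))
    (IsPGroup.of_card (n := 1) (by rw [Nat.card_zpowers, Involution.orderOf_conj, ht, pow_one])) (zpowers_le.2 hg)
  set x := m' * g * m⁻¹ with hx
  set s := m * t * m⁻¹ with hs
  have hsS : s ∈ (S : Subgroup G) := hmt t (mem_zpowers t)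
  have hs2 : orderOf s = 2 := by rw [Involution.orderOf_conj, ht]
  have hs' : x * s * x⁻¹ ∈ (S : Subgroup G) := by
    have := hmt' _ (mem_zpowers (g * t * g⁻¹))
    simpa [hx, hs, mul_assoc] using this
  obtain ⟨d, hd, hd1, hds⟩ := hex s hsS hs2
  have hxd : x * d * x⁻¹ ∈ M := by
    refine hCv _ hs' (by rw [Involution.orderOf_conj, hs2]) (mem_centralizer_singleton_iff.2 ?_)
    calc x * d * x⁻¹ * (x * s * x⁻¹) = x * (d * s) * x⁻¹ := by group
      _ = x * (s * d) * x⁻¹ := by rw [hds.eq]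
      _ = _ := by group
  obtain ⟨c, hc, hcd⟩ := hSyl.exists_conj_le (H := zpowers (x * d * x⁻¹))
    (IsPGroup.of_card (n := 1) (by rw [Nat.card_zpowers, Involution.orderOf_conj, h.orderOf_eq hd hd1, pow_one]))
    (zpowers_le.2 hxd)
  have h5 : c * x * d * (c * x)⁻¹ ∈ A := h.sc.2 d hd (c * x) (by
    simpa [mul_assoc] using hcd _ (mem_zpowers (x * d * x⁻¹)))
  have h6 : c * x ∈ M := h.mem_of_fused hN hd h5 (hCa _ h5 fun e => hd1 (conj_eq_one_iff.1 e))
  have h7 : m'⁻¹ * (c⁻¹ * (c * x)) * m ∈ M := mul_mem (mul_mem (inv_mem hm') (mul_mem (inv_mem hc) h6)) hm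
  simpa [hx, mul_assoc] using h7

end

end Cfsg.Agent.PPrimeNilpotent
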