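/-
The final count: no strongly embedded subgroup with rank one set-up survives.

Main results (namespace `Cfsg.Agent.PPrimeNilpotent`):
* `not_dvd_two_pow_add_one` : `p` divides `2 ^ e - 1 = p ^ k` and not `2 ^ j + 1`;
* `card_conjugates` : the orbit under conjugation;
* `isPGroup_mul_involutions` : products of involutions inside and outside are `p`-elements;
* `false_of_stronglyEmbedded` : the counting contradiction.
-/
import Cfsg.Agent.Lib.PPrimeNilpotent.Closed
import Cfsg.Agent.Lib.Bender.Consumers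
import Cfsg.Agent.Lib.Bender.RankOneHalf

set_option autoImplicit false
set_option linter.unusedSectionVars false
set_option linter.style.haveILetI false

namespace Cfsg.Agent.PPrimeNilpotent

open Subgroup MulAction

universe u

theorem not_dvd_two_pow_add_one {p e k j : ℕ} (hp : p.Prime) (hp3 : 3 < p) (hk : k ≠ 0)
    (he : 2 ^ e - 1 = p ^ k) : ¬ p ∣ 2 ^ j + 1 := by
  intro hj
  haveI : Fact p.Prime := ⟨hp⟩
  have h1 : (2 : ZMod p) ^ e = 1 := by
    have h2 : ((2 ^ e : ℕ) : ZMod p) = ((p ^ k + 1 : ℕ) : ZMod p) := by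
      congr 1
      have := Nat.one_le_two_pow (n := e)
      omega
    push_cast at h2
    rw [h2, ZMod.natCast_self, zero_pow hk, zero_add]
  have h2 : (2 : ZMod p) ^ j = -1 := by
    have h3 := (ZMod.natCast_eq_zero_iff (2 ^ j + 1) p).2 hj
    push_cast at h3
    exact eq_neg_of_add_eq_zero_left h3
  rcases Nat.even_or_odd e with ⟨f, rfl⟩ | hodd
  · have h3 : 3 ∣ p ^ k := by
      rw [← he, ← two_mul, pow_mul]
      simpa using Nat.sub_dvd_pow_sub_pow 4 1 f
    exact absurd ((Nat.prime_dvd_prime_iff_eq Nat.prime_three hp).1 (Nat.prime_three.dvd_of_dvd_pow h3)) (by omega)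
  · have h4 : (2 : ZMod p) ^ (2 * j) = 1 := by rw [mul_comm, pow_mul, h2, neg_one_sq]
    have h5 := pow_gcd_eq_one.2 ⟨h4, h1⟩
    rw [Nat.Coprime.gcd_mul_left_cancel j (Nat.coprime_two_left.2 hodd)] at h5
    obtain ⟨c, hc⟩ := Nat.gcd_dvd_left j e
    rw [hc, pow_mul, h5, one_pow] at h2
    have h6 : ((2 : ℕ) : ZMod p) = 0 := by
      push_cast
      linear_combination h2
    exact absurd (Nat.le_of_dvd (by norm_num) ((ZMod.natCast_eq_zero_iff 2 p).1 h6)) (by omega)

variable {G : Type u} [Group G] [Finite G] {p : ℕ}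

theorem card_conjugates (M : Subgroup G) (z : G) :
    Nat.card {x : G // ∃ m ∈ M, m * z * m⁻¹ = x} = ((centralizer ({z} : Set G)).subgroupOf M).index := by
  symm
  rw [Subgroup.index_eq_card]
  refine Nat.card_congr (Equiv.ofBijective (Quotient.lift (fun m : ↥M =>
    (⟨(m : G) * z * (m : G)⁻¹, m, m.2, rfl⟩ : {x : G // ∃ m ∈ M, m * z * m⁻¹ = x})) ?_) ⟨?_, ?_⟩)
  · intro a b hab
    have hc : (a : G)⁻¹ * b ∈ centralizer ({z} : Set G) := mem_subgroupOf.1 (QuotientGroup.leftRel_apply.1 hab)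
    refine Subtype.ext ?_
    have e := mem_centralizer_singleton_iff.1 hc
    calc (a : G) * z * (a : G)⁻¹ = a * (z * ((a : G)⁻¹ * b)) * (b : G)⁻¹ := by group
      _ = a * (((a : G)⁻¹ * b) * z) * (b : G)⁻¹ := by rw [e]
      _ = _ := by group
  · rintro ⟨a⟩ ⟨b⟩ e
    refine Quotient.sound (QuotientGroup.leftRel_apply.2 (mem_subgroupOf.2 (mem_centralizer_singleton_iff.2 ?_)))
    have e' : (a : G) * z * (a : G)⁻¹ = (b : G) * z * (b : G)⁻¹ := congrArg Subtype.val e
    show (a : G)⁻¹ * b * z = z * ((a : G)⁻¹ * b)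
    calc (a : G)⁻¹ * b * z = (a : G)⁻¹ * ((b : G) * z * (b : G)⁻¹) * b := by group
      _ = _ := by rw [← e']; group
  · rintro ⟨x, m, hm, rfl⟩
    exact ⟨Quotient.mk'' ⟨m, hm⟩, rfl⟩

/-- The product of an involution in `M` with one outside has `p`-power order. -/
theorem isPGroup_mul_involutions (h : Hyp p G) (hp : p.Prime) (hp2 : p ≠ 2) {M : Subgroup G}
    (hM : Cfsg.IsStronglyEmbedded M) {u v : G} (hu : orderOf u = 2) (huM : u ∈ M) (hv : orderOf v = 2)
    (hvM : v ∉ M) : IsPGroup p ↥(zpowers (u * v)) := by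
  set y := u * v with hy
  have hodd : Odd (orderOf y) := Involution.not_mem_mul_odd hM hu huM hv hvM
  have key : ∀ r : ℕ, r.Prime → r ∣ orderOf y → r = p := by
    intro r hr hrd
    by_contra hrp
    set y' := y ^ (orderOf y / r) with hy'
    have ho : orderOf y' = r := orderOf_pow_orderOf_div (orderOf_pos y).ne' hrd
    have hr2 : r ≠ 2 := fun e => hodd.not_two_dvd_nat (e ▸ hrd)
    have hinv : u * y' * u⁻¹ = y'⁻¹ :=
      Involution.inverts_pow (Involution.inverts_mul_left hu hv) _
    set w := u * y' with hw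
    have hw2 : orderOf w = 2 := by
      refine Involution.orderOf_of_sq ?_ fun e => ?_
      · calc w * w = u * y' * u⁻¹ * y' := by rw [hw, Involution.inv_eq hu]; simp only [mul_assoc]
          _ = 1 := by rw [hinv, inv_mul_cancel]
      · have e' : y' = u⁻¹ := eq_inv_of_mul_eq_one_right e
        rw [e', orderOf_inv, hu] at ho
        exact hr2 ho.symm
    have huw : u * w = y' := by
      rw [hw, ← mul_assoc, Involution.mul_self hu, one_mul]
    have hne : u ≠ w := fun e => by
      rw [← e, Involution.mul_self hu] at huw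
      rw [← huw, orderOf_one] at ho
      exact hr.ne_one ho.symm
    set H := Subgroup.closure ({u, w} : Set G)
    have hcard : Nat.card ↥H = 2 * r := by
      rw [← Nat.card_congr (Involution.dihedralEquiv hu hw2 hne).toEquiv, DihedralGroup.nat_card, huw, ho]
    haveI := h H (by
      rw [hcard]
      exact Nat.Coprime.mul_left ((Nat.coprime_primes Nat.prime_two hp).2 hp2.symm)
        ((Nat.coprime_primes hr hp).2 hrp))
    have huH : u ∈ H := subset_closure (Or.inl rfl)
    have hyH : y' ∈ H := huw ▸ mul_mem huH (subset_closure (Or.inr rfl))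
    have hc := congrArg Subtype.val (PQFit.commute_of_nilpotent_coprime (⟨u, huH⟩ : H) ⟨y', hyH⟩ (by
      rw [orderOf_mk, orderOf_mk, hu, ho]
      exact (Nat.coprime_primes Nat.prime_two hr).2 hr2.symm))
    have hc' : u * y' = y' * u := hc
    rw [hw.trans hc', mul_inv_cancel_right, eq_inv_iff_mul_eq_one, ← sq] at hinv
    exact hr2 ((Nat.prime_dvd_prime_iff_eq hr Nat.prime_two).1 (ho ▸ orderOf_dvd_of_pow_eq_one hinv))
  exact IsPGroup.of_card ((Nat.card_zpowers y).trans
    (Nat.eq_prime_pow_of_unique_prime_dvd (orderOf_pos y).ne' fun {q} hq hqd => key q hq hqd))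

/-- **The contradiction.** -/
theorem false_of_stronglyEmbedded [IsSimpleGroup G] (h : Hyp p G) (hp : p.Prime) (hp3 : 3 < p)
    {S : Sylow 2 G} {A M : Subgroup G} (hc : Closed S A) (h8 : 8 ≤ Nat.card A)
    (hN : normalizer (A : Set G) ≤ M) (hM : Cfsg.IsStronglyEmbedded M) : False := by
  classical
  haveI : Fact (Nat.Prime 2) := ⟨Nat.prime_two⟩
  haveI : Fact p.Prime := ⟨hp⟩
  haveI := Fintype.ofFinite G
  haveI := Fintype.ofFinite (G ⧸ M)
  have hcore := Bender.normalCore_of_simple hM
  have h2 := SuzukiRankOne.two_involutions_of_simple hM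
  obtain ⟨t, Q, hR⟩ := Bender.rankOneHalf G M hM hcore h2
  haveI := Bender.faithful_of_normalCore hcore
  obtain ⟨hQ2, ⟨S', hS'⟩, -⟩ := Bender.sylow_normal hR h2
  set a : G ⧸ M := ((1 : G) : G ⧸ M) with ha
  have hst : stabilizer G a = M := stabilizer_quotient M
  have hMQ : M ≤ normalizer (Q : Set G) := fun g hg =>
    Signalizer.mem_normalizer_of_conj_mem fun x hx => hR.conj_mem g (hst.ge hg) x hx
  have h2Q : ∀ P : Subgroup G, IsPGroup 2 P → P ≤ M → P ≤ Q := fun P hP hPM => by
    have hsup : IsPGroup 2 ↥(P ⊔ Q) := hP.to_sup_of_normal_right' hQ2 (hPM.trans hMQ)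
    have := S'.is_maximal' hsup (hS' ▸ le_sup_right)
    exact le_sup_left.trans (this.trans hS').le
  have hQS : Q = (S : Subgroup G) := by
    have h1 := h2Q _ S.isPGroup' (hc.sylow_le_normalizer.trans hN)
    exact S.is_maximal' hQ2 h1
  obtain ⟨z, hzA, hz1⟩ := (Subgroup.bot_or_exists_ne_one A).resolve_left fun e => by
    rw [e, Subgroup.card_bot] at h8; omega
  have hz2 := hc.orderOf_eq hzA hz1
  have hAM : A ≤ M := le_normalizer.trans hN
  -- the involutions of `M`
  have hinv : ∀ v : G, orderOf v = 2 → v ∈ M → v ∈ A := by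
    intro v hv hvM
    have hvQ := h2Q _ (IsPGroup.of_card (n := 1) (by rw [Nat.card_zpowers, hv, pow_one]))
      (zpowers_le.2 hvM) (mem_zpowers v)
    obtain ⟨g, hg⟩ := isConj_iff.1 (Involution.isConj_involutions hM hz2 hv)
    have := hc.sc.2 z hzA g (by rw [hg]; exact hQS ▸ hvQ)
    rwa [hg] at this
  have hMA : M ≤ normalizer (A : Set G) := fun m hm => Signalizer.mem_normalizer_of_conj_mem fun b hb => by
    by_cases hb1 : b = 1
    · simp [hb1]
    · exact hinv _ (by rw [Involution.orderOf_conj, hc.orderOf_eq hb hb1])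
        (mul_mem (mul_mem hm (hAM hb)) (inv_mem hm))
  -- the number of involutions of `M`
  set ι := Nat.card {x : G // orderOf x = 2 ∧ x ∈ M} with hι
  have hιA : ι = Nat.card A - 1 := by
    have e1 : (Finset.univ.filter fun x : G => orderOf x = 2 ∧ x ∈ M) =
        (Finset.univ.filter fun x : G => x ∈ A).erase 1 := by
      ext x
      simp only [Finset.mem_filter, Finset.mem_univ, true_and, Finset.mem_erase]
      exact ⟨fun hx => ⟨Involution.ne_one hx.1, hinv x hx.1 hx.2⟩, fun hx => ⟨hc.orderOf_eq hx.2 hx.1, hAM hx.2⟩⟩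
    rw [hι, Nat.card_eq_fintype_card, Fintype.card_subtype, e1,
      Finset.card_erase_of_mem (by simp), ← Fintype.card_subtype, ← Nat.card_eq_fintype_card]
  have hιi : ι = ((centralizer ({z} : Set G)).subgroupOf M).index := by
    rw [← card_conjugates]
    refine Nat.card_congr (Equiv.subtypeEquivRight fun x => ⟨fun hx =>
      Involution.exists_conj_in hM hz2 (hAM hzA) hx.1 hx.2, ?_⟩)
    rintro ⟨m, hm, rfl⟩
    exact ⟨by rw [Involution.orderOf_conj, hz2], mul_mem (mul_mem hm (hAM hzA)) (inv_mem hm)⟩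
  obtain ⟨e, he⟩ := IsPGroup.iff_card.1 (Signalizer.isPGroup_of_elemAb hc.elem)
  have hι0 : ι ≠ 0 := by omega
  have hpw : ι = p ^ ι.primeFactorsList.length := by
    refine Nat.eq_prime_pow_of_unique_prime_dvd hι0 fun {r} hr hrd => ?_
    by_contra hrp
    have hr2 : r ≠ 2 := by
      rintro rfl
      have he0 : e ≠ 0 := by rintro rfl; omega
      have : 2 ∣ 2 ^ e := dvd_pow_self 2 he0
      omega
    haveI : Fact r.Prime := ⟨hr⟩
    rw [hιi] at hrd
    obtain ⟨R⟩ : Nonempty (Sylow r ↥M) := inferInstance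
    refine R.not_dvd_index (hrd.trans (Subgroup.index_dvd_of_le fun x hx => ?_))
    obtain ⟨k, hk⟩ := R.isPGroup' ⟨x, hx⟩
    have hord : orderOf (x : G) ∣ r ^ k :=
      orderOf_dvd_of_pow_eq_one (congrArg (fun w => ((Subtype.val w : ↥M) : G)) hk)
    have hxc := h.centralizes hp (by omega) (Signalizer.isPGroup_of_elemAb hc.elem) (hMA x.2)
      (((hr.odd_of_ne_two hr2).pow (n := k)).of_dvd_nat hord)
      (fun hd => hrp ((Nat.prime_dvd_prime_iff_eq hp hr).1 (hp.dvd_of_dvd_pow (hd.trans hord))).symm)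
    exact mem_subgroupOf.2 (mem_centralizer_singleton_iff.2 (mem_centralizer_iff.1 hxc z hzA).symm)
  have hk0 : ι.primeFactorsList.length ≠ 0 := fun e0 => by
    rw [e0, pow_zero] at hpw; omega
  obtain ⟨j, hj⟩ := IsPGroup.iff_card.1 hQ2
  have hΩ : Nat.card (G ⧸ M) = 2 ^ j + 1 := by rw [RankOne.Setup.card_omega hR, hj]
  have hpΩ : ¬ p ∣ Nat.card (G ⧸ M) := by
    rw [hΩ]
    exact not_dvd_two_pow_add_one hp hp3 hk0 (e := e) (by rw [← he, ← hιA]; exact hpw)
  -- counting the involutions outside `M`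
  obtain ⟨u, huA, hu1⟩ : ∃ u ∈ A, u ≠ 1 := ⟨z, hzA, hz1⟩
  have hu := hc.orderOf_eq huA hu1
  have huM := hAM huA
  have hfa : ∀ g : G, g • a = a ↔ g ∈ M := fun g => by rw [← mem_stabilizer_iff, hst]
  have hexb : ∀ v : G, orderOf v = 2 → v ∉ M → ∃ b : G ⧸ M, b ≠ a ∧ v • b = u • b ∧ v ≠ u := by
    intro v hv hvM
    have hP := isPGroup_mul_involutions h hp (by omega) hM hu huM hv hvM
    obtain ⟨b, hb⟩ := hP.nonempty_fixed_point_of_prime_not_dvd_card (G ⧸ M) hpΩ
    have hb' : (u * v) • b = b := hb ⟨u * v, mem_zpowers _⟩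
    have hvb : v • b = u • b := by
      conv_rhs => rw [← hb', mul_smul, ← mul_smul u u, Involution.mul_self hu, one_smul]
    refine ⟨b, fun e => hvM ((hfa v).1 ?_), hvb, fun e => hvM (e ▸ huM)⟩
    rw [← e, hvb, e]
    exact (hfa u).2 huM
  choose! fb hfb1 hfb2 hfb3 using hexb
  set T := Finset.univ.filter fun x : G => orderOf x = 2 ∧ x ∉ M
  set B := (Finset.univ : Finset (G ⧸ M)).erase a
  have hsw : ∀ x y : G ⧸ M, x ≠ y → (Finset.univ.filter fun i : G => orderOf i = 2 ∧ i • x = y).card = ι := by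
    intro x y hxy
    rw [hι, ← Involution.card_swapping hM hxy, Nat.card_eq_fintype_card, Fintype.card_subtype]
  have hlow : B.card * ι ≤ T.card := by
    have hsub : B.biUnion (fun c => Finset.univ.filter fun i : G => orderOf i = 2 ∧ i • a = c) ⊆ T := by
      intro i hi
      simp only [Finset.mem_biUnion, Finset.mem_filter, Finset.mem_univ, true_and, B, Finset.mem_erase] at hi
      obtain ⟨c, ⟨hca, -⟩, hi2, hic⟩ := hi
      simp only [T, Finset.mem_filter, Finset.mem_univ, true_and]
      exact ⟨hi2, fun hiM => hca (hic ▸ (hfa i).2 hiM)⟩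
    refine le_of_eq_of_le ?_ (Finset.card_le_card hsub)
    rw [Finset.card_biUnion, Finset.sum_congr rfl fun c hc => hsw a c (Finset.ne_of_mem_erase hc).symm,
      Finset.sum_const, smul_eq_mul]
    intro c _ d _ hcd
    refine Finset.disjoint_left.2 fun i hi hi' => hcd ?_
    rw [← (Finset.mem_filter.1 hi).2.2, ← (Finset.mem_filter.1 hi').2.2]
  have hup : T.card ≤ B.card * (ι - 1) := by
    have hsub : T ⊆ B.biUnion fun b =>
        (Finset.univ.filter fun i : G => orderOf i = 2 ∧ i • b = u • b).erase u := by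
      intro v hv
      simp only [T, Finset.mem_filter, Finset.mem_univ, true_and] at hv
      simp only [Finset.mem_biUnion, Finset.mem_erase, Finset.mem_filter, Finset.mem_univ, true_and, B]
      exact ⟨fb v, ⟨hfb1 v hv.1 hv.2, trivial⟩, hfb3 v hv.1 hv.2, hv.1, hfb2 v hv.1 hv.2⟩
    refine (Finset.card_le_card hsub).trans (Finset.card_biUnion_le.trans ?_)
    rw [← smul_eq_mul]
    refine Finset.sum_le_card_nsmul _ _ _ fun b hb => le_of_eq ?_
    have hne : b ≠ u • b := fun e => Finset.ne_of_mem_erase hb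
      (Involution.fixed_unique hM hu e.symm ((hfa u).2 huM))
    rw [Finset.card_erase_of_mem (by simp [hu]), hsw b (u • b) hne]
  have hB : 0 < B.card := by
    rw [Finset.card_erase_of_mem (Finset.mem_univ a), Finset.card_univ, ← Nat.card_eq_fintype_card, hΩ]
    exact Nat.two_pow_pos j
  have := Nat.le_of_mul_le_mul_left (hlow.trans hup) hB
  omega

end Cfsg.Agent.PPrimeNilpotent
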