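/-
The strongly closed subgroup is large in a simple group with nilpotent subgroups of order prime to `p`.

Main results (namespace `Cfsg.Agent.PPrimeNilpotent`):
* `mem_of_coprime_pow` : membership from two coprime powers;
* `commute_of_odd_small` : odd-order elements normalising a four-group centralise it;
* `normalizer_le_centralizer_of_small` : `N(A)` centralises a central involution of `S` in `A` if `|A| ≤ 4`;
* `exists_involution_center`, `Closed.eight_le` : hence `|A| ≥ 8` when the centre and `O(G)` are trivial.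
-/
import Cfsg.Agent.Lib.PPrimeNilpotent.Closed
import Cfsg.Agent.Lib.ZStar.Glauberman
import Cfsg.Agent.Lib.ZStar.Unique
import Cfsg.Agent.S2791

set_option autoImplicit false
set_option linter.unusedSectionVars false
set_option linter.style.haveILetI false

namespace Cfsg.Agent.PPrimeNilpotent

open Subgroup

universe u

variable {G : Type u} [Group G] [Finite G] {p : ℕ} {S : Sylow 2 G} {A : Subgroup G}

theorem mem_of_coprime_pow {K : Subgroup G} {n : G} {a b : ℕ} (hab : a.Coprime b) (ha : n ^ a ∈ K)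
    (hb : n ^ b ∈ K) : n ∈ K := by
  have h : n = (n ^ a) ^ a.gcdA b * (n ^ b) ^ a.gcdB b := by
    rw [← zpow_natCast, ← zpow_natCast, ← zpow_mul, ← zpow_mul, ← zpow_add, ← Nat.gcd_eq_gcd_ab,
      hab.gcd_eq_one, Nat.cast_one, zpow_one]
  rw [h]
  exact mul_mem (zpow_mem ha _) (zpow_mem hb _)

theorem commute_of_odd_small (h : Hyp p G) (hp : p.Prime) (hp3 : 3 < p)
    (hA : Cfsg.IsElementaryAbelian 2 A) (h4 : Nat.card A ≤ 4) {n z : G}
    (hn : n ∈ normalizer (A : Set G)) (hodd : Odd (orderOf n)) (hz : z ∈ A) (hz1 : z ≠ 1) :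
    n ∈ centralizer ({z} : Set G) := by
  set k := (orderOf n).factorization p
  set m := orderOf n / p ^ k with hm
  have hn0 : orderOf n ≠ 0 := (orderOf_pos n).ne'
  have hpm : ¬ p ∣ m := Nat.not_dvd_ordCompl hp hn0
  have hmn : m * p ^ k = orderOf n := Nat.div_mul_cancel (Nat.ordProj_dvd _ p)
  refine mem_of_coprime_pow (Nat.Coprime.pow_left k (hp.coprime_iff_not_dvd.2 hpm)) ?_ ?_
  · have ho : orderOf (n ^ p ^ k) = m := orderOf_pow_of_dvd (pow_ne_zero k hp.ne_zero) (Nat.ordProj_dvd _ p)
    have hc := h.centralizes hp (by omega) (Signalizer.isPGroup_of_elemAb hA) (pow_mem hn (p ^ k))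
      (by rw [ho]; exact hodd.of_dvd_nat ⟨_, hmn.symm⟩) (by rwa [ho])
    exact mem_centralizer_singleton_iff.2 (mem_centralizer_iff.1 hc z hz).symm
  · set y := n ^ m with hy
    have hyk : y ^ p ^ k = 1 := by rw [hy, ← pow_mul, hmn, pow_orderOf_eq_one]
    let f : Option (Fin 4) → ↥A := fun o => o.elim 1 fun i =>
      ⟨y ^ (i : ℕ) * z * (y ^ (i : ℕ))⁻¹, (mem_normalizer_iff.1 (pow_mem (pow_mem hn m) (i : ℕ)) z).1 hz⟩
    have hnone : ∀ i : Fin 4, f none ≠ f (some i) := fun i e =>
      hz1 (conj_eq_one_iff.1 (congrArg Subtype.val e).symm)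
    obtain ⟨i, j, hij, he⟩ : ∃ i j : Fin 4, (i : ℕ) < j ∧
        y ^ (i : ℕ) * z * (y ^ (i : ℕ))⁻¹ = y ^ (j : ℕ) * z * (y ^ (j : ℕ))⁻¹ := by
      by_contra hcon
      push Not at hcon
      have hinj : Function.Injective f := by
        rintro (_ | i) (_ | j) e
        · rfl
        · exact absurd e (hnone j)
        · exact absurd e.symm (hnone i)
        · rcases lt_trichotomy (i : ℕ) j with hl | hl | hl
          · exact absurd (congrArg Subtype.val e) (hcon i j hl)
          · rw [Fin.ext hl]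
          · exact absurd (congrArg Subtype.val e).symm (hcon j i hl)
      have h5 := Nat.card_le_card_of_injective f hinj
      simp at h5
      omega
    have hd : y ^ ((j : ℕ) - i) ∈ centralizer ({z} : Set G) := by
      refine mem_centralizer_singleton_iff.2 ?_
      have hji : y ^ (j : ℕ) = y ^ (i : ℕ) * y ^ ((j : ℕ) - i) := by
        rw [← pow_add, Nat.add_sub_cancel' hij.le]
      rw [hji] at he
      set a := y ^ (i : ℕ)
      set d := y ^ ((j : ℕ) - i)
      have h1 : a * z * a⁻¹ = a * (d * z * d⁻¹) * a⁻¹ := he.trans (by group)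
      exact (mul_inv_eq_iff_eq_mul.1 (mul_left_cancel (mul_right_cancel h1)).symm)
    refine mem_of_coprime_pow (Nat.Coprime.pow_right k (((hp.coprime_iff_not_dvd).2 fun hd' => ?_)).symm)
      hd (by rw [hyk]; exact one_mem _)
    have := Nat.le_of_dvd (Nat.sub_pos_of_lt hij) hd'
    omega

theorem normalizer_le_centralizer_of_small (h : Hyp p G) (hp : p.Prime) (hp3 : 3 < p) (hc : Closed S A)
    (h4 : Nat.card A ≤ 4) {z : G} (hz : z ∈ A) (hz1 : z ≠ 1)
    (hzS : (S : Subgroup G) ≤ centralizer ({z} : Set G)) :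
    normalizer (A : Set G) ≤ centralizer ({z} : Set G) := by
  set N := normalizer (A : Set G)
  have hidx : ((centralizer ({z} : Set G)).subgroupOf N).index = 1 := by
    by_contra hne
    obtain ⟨r, hr, hrd⟩ := Nat.exists_prime_and_dvd hne
    haveI : Fact r.Prime := ⟨hr⟩
    obtain ⟨R, hR⟩ : ∃ R : Sylow r ↥N, (R : Subgroup ↥N) ≤ (centralizer ({z} : Set G)).subgroupOf N := by
      by_cases hr2 : r = 2
      · subst hr2
        exact ⟨S.subtype hc.sylow_le_normalizer, fun x hx => hzS hx⟩
      · obtain ⟨R⟩ : Nonempty (Sylow r ↥N) := inferInstance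
        refine ⟨R, fun x hx => ?_⟩
        obtain ⟨k, hk⟩ := R.isPGroup' ⟨x, hx⟩
        refine commute_of_odd_small h hp hp3 hc.elem h4 x.2 ?_ hz hz1
        refine Odd.of_dvd_nat ((hr.odd_of_ne_two hr2).pow (n := k)) ?_
        exact orderOf_dvd_of_pow_eq_one (congrArg (fun w => ((Subtype.val w : ↥N) : G)) hk)
    exact R.not_dvd_index (hrd.trans (Subgroup.index_dvd_of_le hR))
  exact Subgroup.subgroupOf_eq_top.1 (Subgroup.index_eq_one.1 hidx)

/-- With trivial centre and odd core, `A` has order at least eight. -/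
theorem Closed.eight_le (hc : Closed S A) (h : Hyp p G) (hp : p.Prime) (hp3 : 3 < p)
    (hcore : Cfsg.pPrimeCore 2 G = ⊥) (hcen : Subgroup.center G = ⊥) {z : G} (hz : z ∈ A) (hz1 : z ≠ 1)
    (hzS : (S : Subgroup G) ≤ centralizer ({z} : Set G)) : 8 ≤ Nat.card A := by
  haveI : Fact (Nat.Prime 2) := ⟨Nat.prime_two⟩
  by_contra h8
  have h4 : Nat.card A ≤ 4 := by
    obtain ⟨e, he⟩ := IsPGroup.iff_card.1 (Signalizer.isPGroup_of_elemAb hc.elem)
    rw [he] at h8 ⊢
    have : e < 3 := by
      by_contra h3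
      exact h8 ((Nat.pow_le_pow_right (by norm_num : 0 < 2) (not_lt.1 h3)).trans' (by norm_num))
    calc 2 ^ e ≤ 2 ^ 2 := Nat.pow_le_pow_right (by norm_num) (by omega)
      _ = 4 := by norm_num
  have hN := normalizer_le_centralizer_of_small h hp hp3 hc h4 hz hz1 hzS
  have hzm : z ∈ (S : Subgroup G) := hc.le hz
  have hiso : Cfsg.IsIsolatedInvolution z :=
    ZStar.isolated_of_sylow S (hc.orderOf_eq hz hz1) hzm fun g hg => by
      obtain ⟨x, hx, hxe⟩ := S2791.exists_agree S hc.elem.1 hc.sc (Nat.card ↥(S : Subgroup G)) (zpowers z)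
        (by omega) (zpowers_le.2 hzm) g (by
          rw [Cfsg.Agent.WeaklyClosed.cj, MonoidHom.map_zpowers, zpowers_le]
          exact hg)
      rw [hxe z (mem_zpowers z), mem_centralizer_singleton_iff.1 (hN hx), mul_inv_cancel_right]
  refine hz1 (Subgroup.mem_bot.1 (hcen ▸ Subgroup.mem_center_iff.2 fun g => ?_))
  have := ZStar.zStar_of_brauerSuzuki ZStar.uniqueInvolution hiso g
  rw [hcore, Subgroup.mem_bot, mul_inv_eq_one, mul_inv_eq_iff_eq_mul] at this
  exact this.symm

end Cfsg.Agent.PPrimeNilpotent
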