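/-
Finite groups all of whose subgroups of order prime to `p > 3` are nilpotent are soluble.

Main results (namespace `Cfsg.Agent.PPrimeNilpotent`):
* `exists_container` : a proper subgroup above `N(A)` and all `O(C(a))`;
* `false_of_simple` : there is no simple counterexample;
* `isSolvable_of_hyp` : the theorem.
-/
import Cfsg.Agent.Lib.PPrimeNilpotent.Fusion
import Cfsg.Agent.Lib.PPrimeNilpotent.Count
import Cfsg.Agent.Lib.Signalizer.GraphTrivial
import Cfsg.Agent.Lib.Signalizer.SSFT.Main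
import Cfsg.Agent.Lib.OddOrderTheorem.Basic

set_option autoImplicit false
set_option linter.unusedSectionVars false
set_option linter.style.haveILetI false

namespace Cfsg.Agent.PPrimeNilpotent

open Subgroup

universe u

variable {G : Type u} [Group G] [Finite G] {p : ℕ}

theorem exists_container [IsSimpleGroup G] (heven : 2 ∣ Nat.card G) {A : Subgroup G}
    (hA : Cfsg.IsElementaryAbelian 2 A) (h8 : 8 ≤ Nat.card A) (hnA : normalizer (A : Set G) ≠ ⊤)
    (hsolv : ∀ v : G, orderOf v = 2 → Group.IsSolvable ↥(centralizer ({v} : Set G))) :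
    ∃ M : Subgroup G, M ≠ ⊤ ∧ normalizer (A : Set G) ≤ M ∧
      ∀ a ∈ A, a ≠ 1 → Cfsg.centralizerPPrimeCore 2 a ≤ M := by
  haveI : Fact (Nat.Prime 2) := ⟨Nat.prime_two⟩
  have hf := Signalizer.isSolvableSignalizerFunctor_core hA fun a ha ha1 =>
    hsolv a (orderOf_eq_prime (hA.2 a ha) ha1)
  obtain ⟨-, hW2, -⟩ := Signalizer.solvable_signalizer_functor hA (by simpa using h8) hf
  set W := ⨆ a : {a : G // a ∈ A ∧ a ≠ 1}, Cfsg.centralizerPPrimeCore 2 (a : G) with hW
  have hle : ∀ a ∈ A, a ≠ 1 → Cfsg.centralizerPPrimeCore 2 a ≤ W := fun a ha ha1 =>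
    le_iSup (fun a : {a : G // a ∈ A ∧ a ≠ 1} => Cfsg.centralizerPPrimeCore 2 (a : G)) ⟨a, ha, ha1⟩
  by_cases hbot : W = ⊥
  · exact ⟨_, hnA, le_rfl, fun a ha ha1 => ((hle a ha ha1).trans hbot.le).trans bot_le⟩
  refine ⟨normalizer (W : Set G), fun e => ?_, fun g hg => ?_,
    fun a ha ha1 => (hle a ha ha1).trans le_normalizer⟩
  · rcases (normalizer_eq_top_iff.1 e).eq_bot_or_eq_top with e1 | e1
    · exact hbot e1
    · rw [e1, Subgroup.card_top] at hW2
      exact hW2 heven
  · refine Signalizer.mem_normalizer_of_conj_mem fun x hx => ?_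
    have hmap : W ≤ W.comap (MulAut.conj g).toMonoidHom := iSup_le fun a => by
      refine map_le_iff_le_comap.1 ?_
      rw [Signalizer.map_conj_centralizerPPrimeCore]
      exact hle _ ((mem_normalizer_iff.1 hg _).1 a.2.1) fun e => a.2.2 (conj_eq_one_iff.1 e)
    exact hmap hx

/-- No non-abelian simple group has all proper subgroups soluble and the property. -/
theorem false_of_simple (h : Hyp p G) (hp : p.Prime) (hp3 : 3 < p)
    (hsol : ∀ H : Subgroup G, H ≠ ⊤ → Group.IsSolvable ↥H)
    (hG : ∀ N : Subgroup G, N.Normal → N = ⊥ ∨ N = ⊤) (hna : ¬ IsMulCommutative G)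
    (heven : 2 ∣ Nat.card G) : False := by
  haveI : Fact (Nat.Prime 2) := ⟨Nat.prime_two⟩
  haveI : Nontrivial G := not_subsingleton_iff_nontrivial.1 fun hs =>
    hna ⟨⟨fun a b => Subsingleton.elim _ _⟩⟩
  haveI : IsSimpleGroup G := { eq_bot_or_eq_top_of_normal := hG }
  have hcen : Subgroup.center G = ⊥ := (hG _ inferInstance).resolve_right fun e =>
    hna ⟨⟨fun a b => Subgroup.mem_center_iff.1 (e ▸ Subgroup.mem_top b) a⟩⟩
  have hsolv : ∀ v : G, orderOf v = 2 → Group.IsSolvable ↥(centralizer ({v} : Set G)) := fun v hv =>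
    hsol _ fun e => Involution.ne_one hv (Subgroup.mem_bot.1 (hcen ▸ Subgroup.mem_center_iff.2 fun g =>
      Subgroup.mem_centralizer_singleton_iff.1 (e ▸ Subgroup.mem_top g : g ∈ centralizer ({v} : Set G))))
  have hcore : Cfsg.pPrimeCore 2 G = ⊥ := (hG _ (Cores.pPrimeCore_normal 2 G)).resolve_right fun e => by
    have := Cores.not_dvd_card_pPrimeCore (p := 2) (G := G)
    rw [e, Subgroup.card_top] at this
    exact this heven
  obtain ⟨S⟩ : Nonempty (Sylow 2 G) := inferInstance
  set N := normalizer (Cfsg.thompsonSubgroupOf 2 (S : Subgroup G) : Set G) with hN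
  set A := (Subgroup.normalClosure (((Cfsg.omegaOne 2 ((S : Subgroup G) ⊓
    Subgroup.centralizer ((S : Subgroup G) : Set G))).subgroupOf N : Subgroup ↥N) : Set ↥N)).map N.subtype with hA
  have hfree := h.sFourFree hp hp3
  have hset := SFourClosed.setting_normalClosure S hfree
    (SFourClosed.secBound_of_secComp hfree (secComp_of_proper hsol hG hna)) hN hA
  have hc : Closed S A := ⟨hset.hyp.elem, hset.hyp.le, fun x hx g hg =>
    SFourClosed.meet_normalizer_le hfree hset g ⟨AlperinFamily.conj_mem_cj g hx, hset.hyp.norm hg⟩⟩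
  obtain ⟨z, hz, hz1, hz2⟩ := PLocal.exists_central_of_order_p S.isPGroup' (S.ne_bot_of_dvd_card heven)
  have hzA : z ∈ A := by
    have hzN : z ∈ N := (Subgroup.le_normalizer.trans
      (PLocal.normalizer_le_normalizer_thompsonSubgroupOf _)) hz.1
    refine ⟨⟨z, hzN⟩, Subgroup.subset_normalClosure (Subgroup.mem_subgroupOf.2 ?_), rfl⟩
    exact PLocal.mem_omegaOne hz hz2
  have hzS : (S : Subgroup G) ≤ centralizer ({z} : Set G) := fun s hs =>
    Subgroup.mem_centralizer_singleton_iff.2 (Subgroup.mem_centralizer_iff.1 hz.2 s hs)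
  have h8 := hc.eight_le h hp hp3 hcore hcen hzA hz1 hzS
  have hnA : normalizer (A : Set G) ≠ ⊤ := fun e => by
    rcases hG A (normalizer_eq_top_iff.1 e) with e1 | e1
    · exact hz1 (Subgroup.mem_bot.1 (e1 ▸ hzA))
    · exact hna ⟨⟨fun a b => Signalizer.commute_of_isMulCommutative hc.elem.1 (e1.ge (mem_top a)) (e1.ge (mem_top b))⟩⟩
  obtain ⟨M, hM, hNM, hθ⟩ := exists_container heven hc.elem h8 hnA hsolv
  exact false_of_stronglyEmbedded h hp hp3 hc h8 hNM (hc.stronglyEmbedded h8 hM hNM hsolv hθ)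

/-- **The theorem.** -/
theorem isSolvable_of_hyp (hp : p.Prime) (hp3 : 3 < p) (n : ℕ) :
    ∀ (G : Type u) [Group G] [Finite G], Nat.card G = n → Hyp p G → Group.IsSolvable G := by
  induction n using Nat.strong_induction_on with
  | _ n ih =>
    intro G _ _ hn h
    have hsol : ∀ H : Subgroup G, H ≠ ⊤ → Group.IsSolvable ↥H := fun H hH =>
      ih _ (hn ▸ lt_of_le_of_ne (Subgroup.card_le_card_group H) fun e => hH (Subgroup.eq_top_of_card_eq H e))
        ↥H rfl (h.subgroup H)
    by_cases hG : ∀ N : Subgroup G, N.Normal → N = ⊥ ∨ N = ⊤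
    · by_cases hna : IsMulCommutative G
      · exact Group.isSolvable_of_comm fun a b => hna.is_comm.comm a b
      by_cases heven : 2 ∣ Nat.card G
      · exact (false_of_simple h hp hp3 hsol hG hna heven).elim
      · exact OddOrderTheorem.solvable (Nat.odd_iff.2 (by omega))
    · push Not at hG
      obtain ⟨N, hN, h1, h2⟩ := hG
      haveI := hN
      refine (Group.isSolvable_iff_subgroup_quotient N).2 ⟨hsol N h2, ih _ (hn ▸ ?_) (G ⧸ N) rfl (h.quotient hp N)⟩
      rw [Subgroup.card_eq_card_quotient_mul_card_subgroup N]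
      exact lt_mul_of_one_lt_right Nat.card_pos (Finite.one_lt_card_iff_nontrivial.2
        ((Subgroup.nontrivial_iff_ne_bot N).2 h1))

end Cfsg.Agent.PPrimeNilpotent
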